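import Cfsg.Agent.BN.LangS
import Cfsg.Agent.Chev.Univ
import Cfsg.Agent.Chev.Emb
import Cfsg.Agent.Chev.ClsOm

/-! Subgroups `Ω₈⁺(4)` of `E₈(2)`: the twisted model. -/

set_option autoImplicit false

namespace CF.Oq

open CF.Chev CF.BN Cfsg Cfsg.Lie Matrix

/-- The roots. -/
abbrev Rt := Fin 240

/-- Coordinates of the torus `5⁴`. -/
abbrev V5 := Fin 4 → ZMod 5

/-- The group `Ω₈⁺`. -/
abbrev Y (F : Type*) [Field F] := Omega F (quadFormPlus 4 F)

/-- The basis of type `E₈`. -/
noncomputable def c8 : ChevBasis (Fin 8) Rt := cbE8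

theorem tb8 : TabOf c8 tabE8 := tabOf certE8

/-- A word for the twist. -/
def lw : List (Fin 8) := [5, 6, 7, 4, 5, 6, 0, 2, 3, 4, 5, 1, 3, 4, 2, 3, 0, 2, 1, 3, 4, 5, 6, 7, 5, 3, 4, 2, 3, 0, 2, 1, 3, 4, 5, 6, 2, 3, 0, 2, 1, 3, 4, 5, 1, 3, 4, 2, 3, 0, 2, 1, 3, 4, 3, 2, 1, 3, 2, 1]

/-- The twist: an element of the Weyl group with square `-1`. -/
noncomputable def w : Equiv.Perm Rt := c8.wp lw

/-- A basis of the torus. -/
def Yv : Fin 4 → Fin 8 → ℕ := ![![2, 0, 3, 4, 0, 1, 4, 2], ![4, 2, 4, 4, 1, 3, 1, 4], ![2, 1, 0, 2, 3, 4, 4, 2], ![4, 3, 0, 1, 4, 1, 4, 2]]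

/-- The value of a root on the torus. -/
noncomputable def R (r : Rt) : V5 := fun a => ((∑ i, (Yv a i : ℤ) * c8.A (c8.simple i) r : ℤ) : ZMod 5)

/-- The centralizer of the twist. -/
noncomputable def Cw : Subgroup (Equiv.Perm Rt) := c8.W ⊓ Subgroup.centralizer {w}

/-- The reflections of the centralizer. -/
noncomputable def rr (a : Rt) : Equiv.Perm Rt := c8.refl a * c8.refl (w a)

/-- The Cartan matrix of type `D₄`. -/
def CD : Fin 4 → Fin 4 → ℤ := ![![2, -1, 0, 0], ![-1, 2, -1, -1], ![0, -1, 2, 0], ![0, -1, 0, 2]]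

/-- Its rows modulo `5`. -/
def CD5 (j : Fin 4) : V5 := fun i => (CD j i : ZMod 5)

/-- A base of type `D₄` orthogonal to its image under the twist. -/
def Adm (b : Fin 4 → Rt) : Prop :=
  ∀ i j, c8.A (b i) (b j) = CD i j ∧ c8.A (b i) (w (b j)) = 0

/-- The two standard bases. -/
def β : Fin 2 → Fin 4 → Rt := ![![141, 130, 135, 126], ![141, 130, 64, 188]]

/-- The coroot vector. -/
noncomputable def cv (a : Rt) : V5 := fun j => ((c8.A a (β 0 j) + 3 * c8.A (w a) (β 0 j) : ℤ) : ZMod 5)

/-- The orbit of a root under the twist. -/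
def Qa (a : Rt) : Set Rt := {r | r = a ∨ r = c8.neg a ∨ r = w a ∨ r = c8.neg (w a)}

/-- The first factor. -/
def P1 (m : Fin 2) : Set Rt := {r | ∀ j, c8.A (w (β m j)) r = 0}

/-- The second factor. -/
def P2 (m : Fin 2) : Set Rt := {r | ∀ j, c8.A (β m j) r = 0}

/-- The subsystem of type `D₄ D₄`. -/
def Ph (m : Fin 2) : Set Rt := P1 m ∪ P2 m

/-- The parity of a root with respect to a coweight. -/
noncomputable def par (y : Fin 8 → ℤ) (r : Rt) : ZMod 2 := ((∑ i, y i * c8.A (c8.simple i) r : ℤ) : ZMod 2)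

/-- The coweights that cut out the subsystems. -/
def yv : Fin 2 → Fin 2 → Fin 8 → ℤ := ![![![0, 0, 1, 0, 1, 0, 0, 0], ![0, 1, 0, 0, 1, 0, 0, 0]],
  ![![0, 0, 1, 0, 1, 0, 0, 0], ![1, 0, 0, 0, 0, 1, 0, 0]]]

/-- The relative Weyl groups. -/
def W0 (m : Fin 2) : Subgroup (Equiv.Perm Rt) := Subgroup.closure (Set.range fun j => rr (β m j))

/-- The indices in the normalizers. -/
def nn : Fin 2 → ℕ := ![12, 4]

/-! ### Tables -/

/-- The table of the twist. -/
def wT : ℕ := 0x98948f0a7273749c9d9eec89837e244748cc382e2849cd392f29ce3a302ab8aeaa1a1611e14d4c4bdbd6d2423e34dcd7d3433f35c2bcb21eddd8d4444036c3bdb31fc4beb420a5e0dfda46c8c9ca938e8d0908076e6963006f6a64014e706b65024f509995900b75769a96910c779b97920debeae98887826d6867060504e25d585478e35e5955797ae45f5a569fa0ed8a847fa1ee8b8580ef8c8681e8e7e662615c252627a915100f4acf3b312bd03c322cb9afab1b1712d13d332dbab0ac1c1813bbb1ad1d1914a4a3a20eded9d5454137c5bfb521c6c0b622a6c7c1b723a7a8cb716c66035152537b7c7de5605b57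

/-- The twist on numbers. -/
def wN (r : ℕ) : ℕ := Tab.dig wT 8 r

/-- The pairing on numbers. -/
def AN (r s : ℕ) : ℤ := sumLt 8 fun i => Int.mul (tabE8.cov r i) (tabE8.car i s)

/-- The table of the values of the roots. -/
def RT : ℕ := 0x224222222022343424342424232424232323231313132220202020004433443244223422433441344114432233224234403440143312422440244004322430243004443144114211331142234023400332233023300344304410421032133013304344204400420034203400320041123113341334434320430041003320330031004012331033403140400230023314334431444001300130413441022200220002143414141214043404140214112104240404020411110111032403040104101100110001042304030203111001100100032303030103101000100313034301431000431343434143022002000020003003000330141212121242400004120212024200404040040202020232040004404440030201020132000400444044040102010231044444440301010101314434034101410121434141414121000300330333211420142004100424112211224120031003241022102240104324002200223014001200123021122142244214432300210021301300110011302012204223421340114011202002203223321002103213322244134411441124200120312331100110311331224310411021132122331233144114211221213311331123112230003030333042423242323231323231313131212121303333333313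

/-- The values of the roots on numbers. -/
def RN (r a : ℕ) : ℕ := Tab.dig RT 4 (Nat.add (Nat.mul 4 r) a)

theorem wp_val (l : List (Fin 8)) (r : Rt) : (c8.wp l r : ℕ) = actT tabE8 (l.map Fin.val) r :=
  tb8.wp l r

theorem w_val (r : Rt) : (w r : ℕ) = wN r := by
  have : allLt 240 (fun r => Nat.beq (actT tabE8 (lw.map Fin.val) r) (wN r)) = true := by
    decide +kernel
  exact (wp_val lw r).trans (Nat.eq_of_beq_eq_true (allLt_iff.1 this r r.2))

theorem neg_val (r : Rt) : (c8.neg r : ℕ) = 239 - r := by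
  have : allLt 240 (fun r => Nat.beq (tabE8.neg r) (239 - r)) = true := by decide +kernel
  exact (tb8.neg r).trans (Nat.eq_of_beq_eq_true (allLt_iff.1 this r r.2))

theorem A_eq (r s : Rt) : c8.A r s = AN r s := by rw [tb8.A, AN, sumLt_eq]; rfl

theorem R_eq (r : Rt) (a : Fin 4) : R r a = (RN r a : ZMod 5) := by
  have : ∀ a : Fin 4, allLt 240 (fun r => decide ((∑ i : Fin 8, (Yv a i : ℤ) * tabE8.car i r) % 5 =
      RN r a)) = true := by decide +kernel
  have := of_decide_eq_true (allLt_iff.1 (this a) r r.2)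
  simp only [R, tb8.car]
  rw [← Int.cast_natCast (RN r a), ← this]
  exact (ZMod.intCast_mod _ 5).symm

theorem w_mem_W : w ∈ c8.W := c8.wp_mem_W lw

theorem mem_Cw {u : Equiv.Perm Rt} : u ∈ Cw ↔ u ∈ c8.W ∧ ∀ r, u (w r) = w (u r) := by
  simp only [Cw, Subgroup.mem_inf, Subgroup.mem_centralizer_singleton_iff, Equiv.ext_iff,
    Equiv.Perm.mul_apply]

/-- The algebraic group. -/
structure Cx where
  /-- the field -/
  K : Type
  [fK : Field K]
  [ch : CharP K 2]
  /-- the group -/
  G : Type
  [gG : Group G]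
  /-- the root elements -/
  ρ : StRep c8 K G
  h : Univ ρ
  big : Big K 248
  /-- a fifth root of unity -/
  μ : Kˣ
  hμ : orderOf μ = 5

attribute [instance] Cx.fK Cx.ch Cx.gG

namespace Cx

variable (c : Cx)

/-- The Frobenius map. -/
noncomputable def σ : c.G →* c.G := c.h.fr 2 1

/-- The canonical representative of an element of the Weyl group. -/
noncomputable def ν (u : Equiv.Perm Rt) : c.G := c.ρ.nw (wd c8 u)

/-- The finite group. -/
noncomputable def Γ : Subgroup c.G := c.σ.eqLocus (MulAut.conj (c.ν w)).toMonoidHom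

/-- The torus `5⁴`. -/
noncomputable def ep (k : V5) : c.G := c.h.r3.tor fun i => c.μ ^ ∑ a, (k a).val * Yv a i

/-- The subsystem subgroup. -/
noncomputable def D (m : Fin 2) : Subgroup c.G := c.ρ.U (Ph m)

/-- Its fixed points. -/
noncomputable def Hm (m : Fin 2) : Subgroup c.G := c.D m ⊓ c.Γ

/-- The bound for the order. -/
def Ok : Prop := ¬ 5 ^ 6 ∣ Nat.card c.Γ

theorem mem_Γ {g : c.G} : g ∈ c.Γ ↔ c.σ g = c.ν w * g * (c.ν w)⁻¹ := Iff.rfl

theorem σ_x (r : Rt) (t : c.K) : c.σ (c.ρ.x r t) = c.ρ.x r (t ^ 2) := c.h.fr_x 2 1 r t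

theorem nW_ν {u : Equiv.Perm Rt} (hu : u ∈ c8.W) : c.ρ.NW (c.ν u) u := nW_wd hu

theorem Ok.finite {c : Cx} (h : c.Ok) : Finite c.Γ :=
  Nat.finite_of_card_ne_zero fun e => h (e ▸ dvd_zero _)

end Cx

end CF.Oq
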