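import Cfsg.Agent.Oq.C1

/-! The admissible bases up to conjugacy. -/

set_option autoImplicit false

namespace CF.Oq

open CF.Chev CF.BN Cfsg Cfsg.Lie Matrix

namespace CBx

/-- The roots of the generators. -/
def ga : Fin 6 → Rt := ![3, 18, 6, 11, 4, 5]

/-- The tables of the generators. -/
def gT : Fin 6 → ℕ :=
  ![0xd0c0b030908070605040a0201004a45414d3d3c3b374c3332314b2d2c2b494847272625462322214443421d1c1b403f3e1918173a393815363534141312302f2e102a29280f24201f1e0e1a1611a1a09f7d7c7b9b9a99719796956c93929190668e8d8c8b8a6088878685845b8281807f579e9d9c7a797877767553525198706f6e6d946b6a6968678f6564636261895f5e5d5c835a59587e565554747372504f4eded9d5e1d1d0cfcbe0c7c6c5dfc1c0bfdddcdbbbbab9dab7b6b5d8d7d6b1b0afd4d3d2adacabcecdcca9cac9c8a8a7a6c4c3c2a4bebdbca3b8b4b3b2a2aeaaa5efeeede5ebeae9e8e7e6ece4e3e2,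
  0x7675edb2afabcca6c2bcb94ee3e290847f7b12b6b59c992ed7d69528d3d225d0cf6463e98a1ec9c81bc6c55958e717c0bf5554e65251e5a238dcdb7372ec6f6eebae6a69eaaaa95e5de8a5a4a3b80ba09f3534da3231d9682c2bd567664847e18f8e8d2221cb5c5b574342e083823f3edf7e3c3bde01007877efee11b4b37110b1b06d6c0fadac98949324cecd6261600ea8a789881ac4c38716bebd15bbba504fe4374c4b4a079291464505868541048180037d7c1413b74d0a9e9d099b9a302fd80897962a29d42726d165068c8b201fca1d1cc75a1918c156533a39dd74706b5f0d0ca136332d492344403d027a79,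
  0x8c8b898a888706e862615f605e5d4de0dfdddedcdb464445434240413f3e3d3a393c3b38cacbc9c8c7c4c3c6c5c2c1bebdc0bfbcbbbab8b923201f22211e1d1c1a1b1918161715a8a7a5a6a4a30ea19e9da09f9c9b9a989997969495930d0c0a0b0908efeeecedebea868583848281807e7f7a79747d7c787773727b767570716f6e6d6b6c6a69050402030100e7e6e4e5e3e25c5a5b59585657555453504f52514ee14c4b494a4847dad8d9d7d6d4d5d3d2d1cecdd0cfcc3637353433302f32312e2d2a292c2b2827262425b7b4b3b6b5b2b1b0aeafadacaaaba914131112100fa292918f908e8d07e9686765666463,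
  0xa09fed9099959c7b847f8a0b7675e1d9d5de4ad0cfdae04cd7d6df4bd3d24ddcdb4847cccb37b6b545c6c53231af41c0bf2c2bab3c3bb92546c9c83534b24342c22e3f3ebc28382221a6121b171ea1efee9291e99b9aeb8e9796ea8d939e9dec8f98947d7ce566716c8685e768828180e6678c8be80d0c7877e3e207646388096f6e6d87086a69837e890a73725b57600352515c6205595861045554065e5d01004ed1d8d4dd49cecdb7c733b1b0c12dadac3dbbba2726a9ca36b4b344c4c3302fae40bebd2a29aa3a39b82423a8a71413a21d1ca4101918a30f15201fa5111a160e7a79e465706b74535a565f02504f,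
  0x7e807f81046d67615ce6545655574b46df3e403f41da34363537d2d4d3d529282b2a2d2cc8cac9cb1f1e21202322bdbcbfbec1c016181719b3b2b5b4b7b611131214aaacabad0fa5a7a6a80ea3a29d9c9f9ea1a00a0c0b0d94969597088f919092078d898b8a8c06878385848605eceeedef7277757479737c767b7a787d00020103ea696b6a6c68e96365646662e85d5f5e60e7585a595be2e4e3e54f4e515053524d4ce14749484ae042444345dbdddcde39383b3a3d3cd6d8d7d92f2e31303332cdcccfced1d024262527c3c2c5c4c7c61a1c1b1db8bab9bb15aeb0afb110a9a4989a999b09938e8882eb6e706f71,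
  0x8683848582056862e75c595a5b584ce04643444542dad7d8d9d63536373430322e332f31c9cacbc8c4c6c2c7c3c520221e231f211d1a1b1cb4b6b2b7b3b5b1aeafb01411121310a8a5a6a7a40ea29ea09ca19d9f9b98999a0d0a0b0c09928f90918e078c898a8b8806efecedeeeb817e7f807873767a747d727b75797c776f70716e0401020300e96764656663e8615e5f605de6e3e4e5e25556575450524e534f514de14b48494a47dfdcdddedb3f40413e3a3c383d393bd3d4d5d2ced0ccd1cdcf2a2c282d292b27242526bec0bcc1bdbfbbb8b9ba1916171815adaaabaca90fa39794959693088d87ea6d6a6b6c69]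

/-- The action of a word in the generators. -/
def act (l : List (Fin 6)) (r : ℕ) : ℕ := l.foldr (fun j r => Tab.dig (gT j) 8 r) r

/-- Words for the first node. -/
def W1 : List (List (Fin 6)) :=
  [[5, 2, 3, 4], [4, 3, 2, 5, 0], [4, 3, 5, 0], [4, 1, 5, 0, 1], [5, 4], [4], [5, 2, 4], [4, 2,
  5, 0], [4, 5, 0], [5, 0], [4, 1, 3, 0, 4, 1], [5, 3, 4], [4, 2, 1, 5, 4], [4, 2, 1, 4], [4, 3,
  1, 0, 4], [4, 5, 0, 3, 1], [4, 3, 1, 3], [5, 1, 4, 2], [5, 1, 4], [4, 1, 0, 4, 3], [5, 1, 0, 3,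
  4], [5, 2, 4, 3, 1], [4, 5, 1, 2], [4, 5, 1, 3, 0], [4, 3, 1, 5, 4], [5, 2, 4, 1, 5, 0], [4, 3,
  1], [4, 0, 1, 0], [4, 0, 1, 5, 2, 0], [4, 3, 1, 4], [5, 1, 4, 0, 2], [4, 1, 0, 4], [4, 1, 0, 5,
  4], [4, 0, 1, 5, 4], [4, 0, 1, 4], [5, 2, 4, 1], [4, 1, 3, 5, 0, 4], [4, 2, 5, 1, 0], [4, 1, 3,
  4, 5, 0], [4, 1, 3, 5, 0], [4, 5, 1, 0], [4, 1, 5, 0, 2, 4], [4, 1, 3, 5, 4], [4, 5, 1, 0, 5],
  [4, 2, 5, 1, 4], [4, 5, 0, 1], [5, 1, 0], [4, 1, 3, 4], [5, 1, 0, 4, 2], [4, 1, 3, 4, 2], [5,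
  1, 0, 4], [4, 1, 3], [4, 1, 2, 4], [4, 1, 2, 5, 4], [4, 1, 3, 0, 4], [4, 1, 3, 0, 4, 2], [4, 2,
  5, 1, 2], [4, 1, 5, 0, 4], [4, 1, 5, 0, 5], [4, 3, 1, 5, 3], [4, 1, 3, 5, 2], [4, 1, 5, 0], [4,
  1, 5, 2, 4], [4, 0, 1, 4, 5, 0], [5, 4, 1], [5, 4, 1, 0, 3], [4, 0, 1, 5, 0], [4, 1, 2, 5, 2],
  [4, 1], [4, 1, 0, 3], [4, 0, 3, 1, 4], [4, 1, 5, 3, 4], [4, 1, 3, 5, 3], [4, 1, 5, 3, 2], [4,
  1, 5, 3], [4, 5, 3, 1, 0], [4, 1, 2, 0], [4, 1, 5, 2, 0], [4, 3, 5, 1], [5, 2, 3, 4, 3], [5, 2,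
  4, 3, 5], [4, 3, 1, 5, 1], [4, 3, 5, 1, 4], [5, 2, 4, 3], [4, 1, 0, 4, 5, 1], [4, 3, 2, 5, 4],
  [5, 4, 3], [4, 5, 2, 1], [4, 3, 2, 4], [4, 1, 0, 5, 1], [4, 3], [4, 3, 2], [4, 0, 4], [4, 3, 5,
  2, 4], [4, 3, 2, 5, 2], [4, 1, 5, 0, 1, 3], [4, 3, 5, 2], [5, 4, 0, 2], [4, 0, 2], [5, 0, 5, 1,
  4], [4, 1, 3, 5, 1], [4, 1, 5, 0, 1, 2], [5, 0, 5, 1], [5, 4, 2], [4, 2], [4, 5, 2, 3, 4], [4,
  1, 5, 0, 1, 5], [4, 5, 0, 3], [4, 5, 2, 3], [4, 5, 4], [4, 1, 3, 4, 0, 1], [5, 2, 3, 5], [5, 0,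
  3], [5, 2, 3], [4, 1, 2, 4, 3, 1], [4, 0, 1, 4, 2, 1], [4, 2, 5, 0, 3], [4, 2, 3, 5, 1], [4, 3,
  2, 5, 3], [4, 0, 4, 1, 5, 3, 4], [4, 0, 1, 4, 1, 3, 5], [5, 2, 3, 4, 1], [4, 2, 1, 4, 3], [4,
  0, 2, 5, 3], [4, 0, 4, 1, 5, 3], [4, 0, 1, 4, 1, 3], [5, 4, 2, 3], [5, 4, 0, 3], [4, 2, 3, 5,
  4], [5, 1, 4, 0, 1, 4], [], [4, 2, 3], [4, 0, 3], [4, 0, 1, 5, 0, 1], [4, 2, 3, 4], [4, 5, 2],
  [5, 2], [4, 0, 4, 1], [5, 1, 4, 0, 1, 2], [4, 0, 4, 1, 5], [4, 0, 1, 4, 1], [4, 5, 0, 2], [5,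
  0, 2], [5, 3, 4, 2], [4, 1, 2, 0, 5, 1], [5, 3, 4, 2, 5], [4, 2, 1, 4, 2], [5, 0, 5], [4, 5, 3,
  2], [4, 5, 3], [4, 5, 1, 0, 5, 1], [4, 2, 1, 4, 5], [4, 2, 1], [5, 3], [4, 2, 1, 5], [5, 1, 0,
  4, 1], [4, 2, 5, 3], [4, 1, 2, 4, 1], [5, 3, 4, 1, 5], [4, 2, 3, 5, 3], [4, 2, 5, 3, 4], [5, 3,
  4, 1], [5, 1, 4, 2, 0], [4, 5, 1, 2, 0], [4, 3, 1, 0], [5, 1, 4, 3], [4, 0, 2, 5, 1], [4, 1, 0,
  4, 0], [4, 0, 1, 4, 3], [4, 3, 1, 3, 5], [4, 5, 1, 0, 3], [4, 5, 1], [5, 1, 4, 2, 5], [4, 1, 3,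
  5, 4, 0], [5, 1, 0, 3], [5, 1], [4, 1, 3, 4, 0], [4, 3, 1, 4, 2], [5, 1, 4, 0], [4, 1, 2, 4,
  3], [4, 0, 1, 4, 2], [4, 1, 0, 4, 2], [5, 1, 4, 0, 4], [5, 2, 4, 1, 2], [4, 0, 1, 0, 5, 2], [4,
  0, 1, 0, 5], [4, 3, 1, 5], [4, 3, 1, 4, 5], [4, 5, 1, 3], [4, 1, 0, 4, 5], [5, 2, 4, 1, 5], [4,
  1, 0, 4, 5, 2], [4, 0, 1, 4, 5], [5, 4, 1, 0], [4, 0, 1], [4, 0, 1, 5, 2], [4, 1, 0, 5], [4, 0,
  1, 5], [4, 1, 0, 5, 2], [4, 1, 0], [4, 0, 1, 5, 4, 0], [4, 0, 1, 4, 0], [5, 2, 4, 1, 0], [4, 0,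
  1, 4, 0, 5], [4, 2, 5, 1], [4, 1, 3, 4, 5], [4, 1, 3, 5], [5, 1, 0, 5], [4, 5, 1, 0, 4], [4, 1,
  5, 0, 2], [4, 1, 2, 4, 5], [4, 2, 5, 1, 4, 0], [4, 5, 0, 1, 0], [4, 5, 3, 1], [4, 0, 1, 5, 0,
  2], [4, 1, 2, 5], [4, 1, 3, 0], [4, 1, 2], [4, 2, 5, 3, 1], [5, 1, 0, 5, 3], [4, 1, 0, 3, 5],
  [4, 1, 5], [4, 1, 5, 2], [4, 5, 3, 1, 3], [4, 0, 3, 1], [4, 1, 2, 0, 5], [4, 3, 2, 4, 5], [4,
  3, 2, 5], [4, 3, 5], [4, 0, 1, 0, 5, 1], [5, 4, 0], [4, 0], [4, 0, 2, 5], [4, 2, 5], [4, 5],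
  [5], [5, 1, 4, 0, 1], [4, 0, 3, 5], [4, 2, 3, 5], [4, 2, 1, 4, 0]]

/-- Words for the second node. -/
def W2 : List (List (Fin 6)) :=
  [[], [2], [3], [2, 0], [2, 1], [2, 3], [3, 0], [3, 1], [3, 2], [2, 0, 1], [2, 0, 2], [2, 1, 0],
  [2, 1, 3], [2, 3, 1], [3, 1, 2], [3, 1, 3], [3, 2, 1], [2, 0, 1, 0], [2, 0, 1, 2], [2, 0, 1,
  3], [2, 0, 2, 1], [2, 1, 0, 2], [2, 1, 0, 3], [2, 1, 3, 0], [2, 3, 1, 0], [3, 1, 2, 0], [3, 1,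
  2, 3], [3, 1, 3, 2], [3, 2, 1, 3], [2, 0, 1, 2, 0], [2, 0, 1, 3, 0], [2, 0, 2, 1, 3]]

/-- Words for the other nodes. -/
def W3 : List (List (Fin 6)) :=
  [[], [0], [1], [0, 1], [1, 0], [0, 1, 0]]

/-- The value of a word. -/
noncomputable def wv (l : List (Fin 6)) : Equiv.Perm Rt := (l.map fun j => rr (ga j)).prod

/-- The subsystem. -/
def ph (m : Fin 2) (r : ℕ) : Bool := (C1.M1 m ||| C1.M2 m).testBit r

/-- The condition on a pair of nodes. -/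
def ad (r s : ℕ) (c : ℤ) : Bool := AN r s == c && AN r (wN s) == 0

theorem rr_val (j : Fin 6) (r : Rt) : (rr (ga j) r : ℕ) = Tab.dig (gT j) 8 r := by
  have : ∀ j, allLt 240 (fun r => force (Tab.dig (gT j) 8 r) fun s => decide (s < 240) &&
      forceZ (AN (ga j) r) fun a => forceZ (AN (wN (ga j)) r) fun b => allLt 8 fun i =>
        tabE8.vec s i == tabE8.vec r i - a * tabE8.vec (ga j) i - b * tabE8.vec (wN (ga j)) i) =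
      true := by decide +kernel
  have h := allLt_iff.1 (this j) r r.2
  simp only [force_eq, forceZ_eq, Bool.and_eq_true, decide_eq_true_eq, allLt_iff, beq_iff_eq] at h
  refine congrArg Fin.val (c8.vec_inj (a₂ := ⟨_, h.1⟩) (funext fun i => ?_))
  rw [vec_rr]
  simp only [Pi.sub_apply, Pi.smul_apply, smul_eq_mul, tb8.vec, A_eq, w_val, h.2 i i.2]

theorem wv_mem (l : List (Fin 6)) : wv l ∈ Cw :=
  Subgroup.list_prod_mem _ (List.forall_mem_map.2 fun _ _ => rr_mem_Cw _)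

theorem wv_val (l : List (Fin 6)) (r : Rt) : (wv l r : ℕ) = act l r := by
  induction' l with j l ih
  · rfl
  · rw [wv, List.map_cons, List.prod_cons, Equiv.Perm.mul_apply, rr_val]
    exact congrArg _ ih

theorem ok1 : allLt 240 (fun x => act (W1.getD x []) x == 130) = true := by decide +kernel

theorem ok2 : allLt 240 (fun x => !ad x 130 (-1) || W2.any fun l =>
    act l x == 141 && act l 130 == 130) = true := by decide +kernel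

theorem ok3 : allLt 240 (fun y => !(ad y 130 (-1) && ad 141 y 0) || allLt 240 fun t =>
    !(ad t 130 (-1) && ad 141 t 0 && ad y t 0) || W3.any fun l => [0, 1].any fun m =>
      ph m (act l 141) && ph m (act l 130) && ph m (act l y) && ph m (act l t)) = true := by
  decide +kernel

theorem ad_of {b : Fin 4 → Rt} (hb : Adm b) (i j : Fin 4) : ad (b i) (b j) (CD i j) = true := by
  simp [ad, ← w_val, ← A_eq, hb i j]

theorem step3 {b : Fin 4 → Rt} (hb : Adm b) (h1 : (b 1 : ℕ) = 130) (h0 : (b 0 : ℕ) = 141) :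
    ∃ u ∈ Cw, ∃ m, ∀ j, u (b j) ∈ Ph m := by
  have h := allLt_iff.1 ok3 _ (b 2).2
  rw [← h0, ← h1, show ad (b 2) (b 1) (-1) = true from ad_of hb 2 1,
    show ad (b 0) (b 2) 0 = true from ad_of hb 0 2, Bool.and_self, Bool.not_true, Bool.false_or] at h
  replace h := allLt_iff.1 h _ (b 3).2
  rw [show ad (b 3) (b 1) (-1) = true from ad_of hb 3 1,
    show ad (b 0) (b 3) 0 = true from ad_of hb 0 3,
    show ad (b 2) (b 3) 0 = true from ad_of hb 2 3] at h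
  simp only [Bool.and_self, Bool.not_true, Bool.false_or, List.any_eq_true, Bool.and_eq_true,
    ← wv_val, ph, ← C1.mem_Ph] at h
  obtain ⟨l, -, m, -, h⟩ := h
  refine ⟨_, wv_mem l, m, fun j => ?_⟩
  fin_cases j
  exacts [h.1.1.1, h.1.1.2, h.1.2, h.2]

theorem step2 {b : Fin 4 → Rt} (hb : Adm b) (h1 : (b 1 : ℕ) = 130) :
    ∃ u ∈ Cw, ∃ m, ∀ j, u (b j) ∈ Ph m := by
  have h := allLt_iff.1 ok2 _ (b 0).2
  have h2 := ad_of hb 0 1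
  rw [h1] at h2
  simp only [show ad (b 0) 130 (-1) = true from h2, Bool.not_true, Bool.false_or, List.any_eq_true,
    Bool.and_eq_true, beq_iff_eq] at h
  obtain ⟨l, -, h3, h4⟩ := h
  obtain ⟨u, hu, h5⟩ := step3 (hb.map (wv_mem l)) (by rw [wv_val, h1, h4]) (by rw [wv_val, h3])
  exact ⟨_, mul_mem hu (wv_mem l), h5⟩

end CBx

open CBx in
theorem cb {b : Fin 4 → Rt} (hb : Adm b) : ∃ u ∈ Cw, ∃ m, ∀ j, u (b j) ∈ Ph m := by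
  obtain ⟨u, hu, h⟩ := step2 (hb.map (wv_mem (W1.getD (b 1) [])))
    ((wv_val _ _).trans (beq_iff_eq.1 (allLt_iff.1 ok1 _ (b 1).2)))
  exact ⟨_, mul_mem hu (wv_mem _), h⟩

end CF.Oq
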